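import Cfsg.Agent.Omega.NOThreeL.RRed.QFr.Zj
import Cfsg.Agent.Omega.NOThreeL.RRed.BFr.Pairs

/-!
# NO-3L, box R, natural blocks : members of `AA` which act on one block only

* `root`, `nrm` : a member of `AA` acts trivially or as a full root group on every block;
* `card_le` : `|A : C_A(N i)| ≤ q`;
* `peel` : if `A ∈ AA` moves `N i`, then `B = C_A(N i)` is best too, `C_X(B) = N i C_X(A)`;
* **`exists_A`** : for every `i` some `A ∈ AA` moves `N i` and centralises the other blocks.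
-/

set_option autoImplicit false
set_option linter.unusedSectionVars false

namespace Cfsg.Agent.Omega.NOThreeL.RRed.BQ

open Subgroup Cfsg Cfsg.Agent.ZN Cfsg.Agent.ZN.ChoiceBase
open Cfsg.Agent.Omega.SQ1.Bau (mem_sup_comm card_sup_comm elem_comm elem_sq mem_sup_norm)
open Cfsg.Agent.Omega.OM.Lev.Uni (Best)
open Cfsg.Agent.Omega.FFThm (ElemM)
open Cfsg.Agent.Omega.NO3S.OneLine (BFam)
open Cfsg.Agent.Omega.OM.FourF (Act)
open Cfsg.Agent.Omega.OM.SwapV.Q (CorA)
open Cfsg.Agent.Omega.NOThreeL.RRed.QFr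

universe u

variable {G : Type u} [Group G]

/-- `|A : C_A(W)| ≤ |F|` -/
theorem cor_card_le [Finite G] {F : Type} [Field F] [Finite F] {S W Z : Subgroup G} {e : G → F × F}
    (c : CorA F S W Z e) {A : Subgroup G} (hA : A ≤ S)
    (hn : ∀ a ∈ A, ∀ w ∈ W, a * w * a⁻¹ ∈ W) (hc : ∀ a ∈ A, ∀ z ∈ Z, a * z = z * a) :
    Nat.card A ≤ Nat.card F * Nat.card ↥(A ⊓ centralizer (W : Set G)) := by
  classical
  have h1 : ∀ a : A, ∃ m : F, Act W e a fun p => (p.1 + m * p.2, p.2) := fun a => c.up_of (hA a.2) (hc a a.2)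
  choose f hf using h1
  obtain ⟨v, hv, hve⟩ := c.surj (0, 1)
  have hfv : ∀ a : A, (e ((a : G) * v * (a : G)⁻¹)).1 = f a := by
    intro a
    rw [hf a v hv, hve]
    simp
  have hadd : ∀ a b : A, f (a * b) = f a + f b := by
    intro a b
    rw [← hfv (a * b)]
    have e1 : ((a * b : A) : G) * v * ((a * b : A) : G)⁻¹ = (a : G) * ((b : G) * v * (b : G)⁻¹) * (a : G)⁻¹ := by
      rw [Subgroup.coe_mul]; group
    rw [e1, hf a _ (hn b b.2 v hv), hf b v hv, hve]
    simp [add_comm]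
  let φ : A →* Multiplicative F := MonoidHom.mk' (fun a => Multiplicative.ofAdd (f a)) (by
    intro a b
    show Multiplicative.ofAdd (f (a * b)) = _
    rw [hadd a b]
    rfl)
  have hker : Nat.card φ.ker ≤ Nat.card ↥(A ⊓ centralizer (W : Set G)) := by
    refine Nat.card_le_card_of_injective (fun a : φ.ker => (⟨(a.1 : G), a.1.2, ?_⟩ : ↥(A ⊓ centralizer (W : Set G)))) ?_
    · refine mem_centralizer_iff.2 fun w hw => ?_
      have h0 : f a.1 = 0 := congrArg Multiplicative.toAdd (MonoidHom.mem_ker.1 a.2)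
      have h2 := hf a.1 w hw
      rw [h0] at h2
      simp only [zero_mul, add_zero] at h2
      have h3 : (a.1 : G) * w * (a.1 : G)⁻¹ = w := c.inj _ (hn a.1 a.1.2 w hw) w hw h2
      exact (mul_inv_eq_iff_eq_mul.1 h3).symm
    · intro x y hxy
      have h0 : (x.1 : G) = y.1 := congrArg (fun t : ↥(A ⊓ centralizer (W : Set G)) => (t : G)) hxy
      exact Subtype.ext (Subtype.ext h0)
  have hmul : Nat.card φ.ker * Nat.card φ.range = Nat.card A := by
    rw [← Subgroup.index_ker, Subgroup.card_mul_index]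
  have hr : Nat.card φ.range ≤ Nat.card F := by
    have : Finite (Multiplicative F) := inferInstanceAs (Finite F)
    exact Subgroup.card_le_card_group φ.range
  calc Nat.card A = Nat.card φ.range * Nat.card φ.ker := by rw [← hmul, mul_comm]
    _ ≤ _ := Nat.mul_le_mul hr hker

variable [Finite G] {ι : Type} {S : Sylow 2 G} {M V : Subgroup G} {N D l C : ι → Subgroup G} {q : ℕ}
  {X L J : Subgroup G} {AA : Set (Subgroup G)} (b : Bq S M V N D l C q) (lv : LvQ S M V N X L J AA)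
include b lv

/-- a member of `AA` acts trivially or as a full root group -/
theorem root {A : Subgroup G} (hA : A ∈ AA) (i : ι) : A ≤ centralizer (N i : Set G) ∨
    ((∀ a ∈ A, ∀ z ∈ l i, a * z = z * a) ∧ (∀ a ∈ A, ∀ v ∈ N i, a * v * a⁻¹ * v⁻¹ ∈ l i) ∧
      q * Nat.card ↥(A ⊓ centralizer (N i : Set G)) ≤ Nat.card A) := by
  have hcl : centralizer (X : Set G) ≤ centralizer (V : Set G) := centralizer_le lv.VX
  refine b.off A (lv.fam.le A hA) ⟨fun a ha => hcl ((lv.fam.elem A hA).sq a ha), fun a ha b hb =>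
    hcl ((lv.fam.elem A hA).comm a ha b hb)⟩ (fun Y hY => ?_) i
  exact BFr.best_ineq (elem_comm lv.elX) (lv.fam.best A hA) (hY.trans lv.VX)

/-- a member of `AA` normalises the blocks -/
theorem nrm {A : Subgroup G} (hA : A ∈ AA) (i : ι) {a : G} (ha : a ∈ A) : ∀ v ∈ N i, a * v * a⁻¹ ∈ N i := by
  intro v hv
  rcases root b lv hA i with h1 | ⟨-, h1, -⟩
  · have h2 := mem_centralizer_iff.1 (h1 ha) v hv
    rw [← h2]
    simpa using hv
  · have h2 := mul_mem (b.lN i (h1 a ha v hv)) hv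
    simpa using h2

/-- `C_(N i)(A) ≤ l i` -/
theorem fix {A : Subgroup G} (hA : A ∈ AA) {i : ι} (hi : ¬ A ≤ centralizer (N i : Set G)) {w : G} (hw : w ∈ N i)
    (hf : ∀ a ∈ A, a * w = w * a) : w ∈ l i := by
  obtain ⟨h3, -, h5⟩ := (root b lv hA i).resolve_left hi
  obtain ⟨F, _, _, _, e, hF, c, -⟩ := b.nat i
  obtain ⟨a, ha, hm⟩ := c.full_of (lv.fam.le A hA) (fun a ha => nrm b lv hA i ha) h3 (by rw [hF]; exact h5) 1
  exact c.mem_of_fix one_ne_zero hm hw (hf a ha)

theorem card_le {A : Subgroup G} (hA : A ∈ AA) {i : ι} (hi : ¬ A ≤ centralizer (N i : Set G)) :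
    Nat.card A ≤ q * Nat.card ↥(A ⊓ centralizer (N i : Set G)) := by
  obtain ⟨h3, -, -⟩ := (root b lv hA i).resolve_left hi
  obtain ⟨F, _, _, _, e, hF, c, -⟩ := b.nat i
  rw [← hF]
  exact cor_card_le c (lv.fam.le A hA) (fun a ha => nrm b lv hA i ha) h3

/-- **`C_A(N i)` is best, `C_X(C_A(N i)) = N i C_X(A)`.** -/
theorem peel {A : Subgroup G} (hA : A ∈ AA) {i : ι} (hi : ¬ A ≤ centralizer (N i : Set G)) :
    Nat.card ↥(A ⊓ centralizer (N i : Set G)) *
        Nat.card ↥(X ⊓ centralizer ((A ⊓ centralizer (N i : Set G) : Subgroup G) : Set G)) =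
      Nat.card A * Nat.card ↥(X ⊓ centralizer (A : Set G)) ∧
    X ⊓ centralizer ((A ⊓ centralizer (N i : Set G) : Subgroup G) : Set G) = N i ⊔ (X ⊓ centralizer (A : Set G)) := by
  have hXc := elem_comm lv.elX
  have hNX : N i ≤ X := (b.NV i).trans lv.VX
  set B := A ⊓ centralizer (N i : Set G) with hB
  set K := X ⊓ centralizer (A : Set G) with hK
  have hAB : A ⊓ centralizer (X : Set G) ≤ B := inf_le_inf_left _ (centralizer_le hNX)
  have h1 := lv.fam.best A hA B hAB inf_le_left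
  have h2 := card_le b lv hA hi
  rw [← hB] at h2
  have hle : N i ⊔ K ≤ X ⊓ centralizer (B : Set G) := by
    refine sup_le (le_inf hNX fun v hv => mem_centralizer_iff.2 fun f hf => ?_)
      (inf_le_inf_left _ (centralizer_le inf_le_left))
    exact (mem_centralizer_iff.1 hf.2 v hv).symm
  have h3 := card_sup_comm (A := N i) (B := K) fun v hv x hx => hXc v (hNX hv) x hx.1
  have h4 : Nat.card ↥(N i ⊓ K) ≤ q := by
    rw [← b.card_l i]
    refine Subgroup.card_le_of_le fun w hw => fix b lv hA hi hw.1 fun a ha => ?_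
    exact mem_centralizer_iff.1 hw.2.2 a ha
  have hq0 : 0 < q := by have := b.q4; omega
  rw [b.card_N i] at h3
  have h5 : q * Nat.card K ≤ Nat.card ↥(N i ⊔ K) := by
    refine Nat.le_of_mul_le_mul_left ?_ hq0
    calc q * (q * Nat.card K) = q * q * Nat.card K := by ring
      _ = Nat.card ↥(N i ⊔ K) * Nat.card ↥(N i ⊓ K) := h3.symm
      _ ≤ Nat.card ↥(N i ⊔ K) * q := Nat.mul_le_mul_left _ h4
      _ = _ := by ring
  have hB0 : 0 < Nat.card B := Nat.card_pos
  have h6 : Nat.card ↥(X ⊓ centralizer (B : Set G)) ≤ q * Nat.card K := by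
    refine Nat.le_of_mul_le_mul_left ?_ hB0
    calc _ ≤ Nat.card A * Nat.card K := h1
      _ ≤ q * Nat.card B * Nat.card K := Nat.mul_le_mul_right _ h2
      _ = _ := by ring
  have h7 : N i ⊔ K = X ⊓ centralizer (B : Set G) := Subgroup.eq_of_le_of_card_ge hle (h6.trans h5)
  refine ⟨le_antisymm h1 ?_, h7.symm⟩
  calc Nat.card A * Nat.card K ≤ q * Nat.card B * Nat.card K := Nat.mul_le_mul_right _ h2
    _ = Nat.card B * (q * Nat.card K) := by ring
    _ ≤ Nat.card B * Nat.card ↥(N i ⊔ K) := Nat.mul_le_mul_left _ h5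
    _ = _ := by rw [h7]

/-- `C_A(N j)` still moves `N i` -/
theorem peel_mv {A : Subgroup G} (hA : A ∈ AA) {i j : ι} (hij : i ≠ j) (hi : ¬ A ≤ centralizer (N i : Set G))
    (hj : ¬ A ≤ centralizer (N j : Set G)) :
    ¬ A ⊓ centralizer (N j : Set G) ≤ centralizer (N i : Set G) := by
  intro hcon
  obtain ⟨-, h2⟩ := peel b lv hA hj
  have hXc := elem_comm lv.elX
  -- `N i ≤ l i`
  have key : N i ≤ l i := by
    intro v hv
    have hvX : v ∈ X := lv.VX (b.NV i hv)
    have h3 : v ∈ X ⊓ centralizer ((A ⊓ centralizer (N j : Set G) : Subgroup G) : Set G) :=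
      ⟨hvX, mem_centralizer_iff.2 fun a ha => (mem_centralizer_iff.1 (hcon ha) v hv).symm⟩
    rw [h2] at h3
    obtain ⟨n, hn, k, hk, e⟩ := mem_sup_comm (A := N j) (B := X ⊓ centralizer (A : Set G))
      (fun v hv x hx => hXc v (lv.VX (b.NV j hv)) x hx.1) h3
    refine fix b lv hA hi hv fun a ha => ?_
    -- the components of `k = n⁻¹ v`
    have ek : k = n⁻¹ * v := by rw [e]; group
    have h4 : a * k = k * a := mem_centralizer_iff.1 hk.2 a ha
    have h5 : a * k * a⁻¹ = k := by rw [h4]; group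
    have h6 : a * v * a⁻¹ * v⁻¹ ∈ N i := mul_mem (nrm b lv hA i ha v hv) (inv_mem hv)
    have h7 : a * n * a⁻¹ * n⁻¹ ∈ N j := mul_mem (nrm b lv hA j ha n hn) (inv_mem hn)
    have h8 : a * v * a⁻¹ * v⁻¹ = a * n * a⁻¹ * n⁻¹ := by
      have h9 : a * v * a⁻¹ = a * n * a⁻¹ * k := by
        calc a * v * a⁻¹ = a * n * a⁻¹ * (a * k * a⁻¹) := by rw [e]; group
          _ = _ := by rw [h5]
      rw [h9, e]
      group
    have h9 : a * v * a⁻¹ * v⁻¹ ∈ N i ⊓ C i := mem_inf.2 ⟨h6, b.WjC i j hij (h8 ▸ h7)⟩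
    rw [b.dir i, mem_bot] at h9
    exact mul_inv_eq_iff_eq_mul.1 (mul_inv_eq_one.1 h9)
  have h3 := Subgroup.card_le_of_le key
  rw [b.card_N, b.card_l] at h3
  have := b.q4
  nlinarith

/-- centralising a block depends only on the action on `X` -/
theorem cen_congr {B B' : Subgroup G} (h : B' ⊔ centralizer (X : Set G) = B ⊔ centralizer (X : Set G)) (i : ι) :
    B' ≤ centralizer (N i : Set G) ↔ B ≤ centralizer (N i : Set G) := by
  have hc : centralizer (X : Set G) ≤ centralizer (N i : Set G) := centralizer_le ((b.NV i).trans lv.VX)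
  constructor
  · intro h1
    exact le_sup_left.trans (h.ge.trans (sup_le h1 hc))
  · intro h1
    exact le_sup_left.trans (h.le.trans (sup_le h1 hc))

/-- **A member acting on one block only.** -/
theorem exists_pure [Finite ι] (i : ι) : ∀ (n : ℕ) (A : Subgroup G), A ∈ AA → ¬ A ≤ centralizer (N i : Set G) →
    {j | ¬ A ≤ centralizer (N j : Set G)}.ncard ≤ n →
      ∃ B ∈ AA, ¬ B ≤ centralizer (N i : Set G) ∧ ∀ j, j ≠ i → B ≤ centralizer (N j : Set G) := by
  intro n
  induction n with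
  | zero =>
    intro A hA hi hn
    have h1 : {j | ¬ A ≤ centralizer (N j : Set G)} = ∅ := by
      rw [← Set.ncard_eq_zero (Set.toFinite _)]
      omega
    exact absurd (show i ∈ {j | ¬ A ≤ centralizer (N j : Set G)} from hi) (by rw [h1]; exact Set.notMem_empty i)
  | succ n ih =>
    intro A hA hi hn
    by_cases hex : ∀ j, j ≠ i → A ≤ centralizer (N j : Set G)
    · exact ⟨A, hA, hi, hex⟩
    push Not at hex
    obtain ⟨j, hji, hj⟩ := hex
    obtain ⟨h1, -⟩ := peel b lv hA hj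
    have hXB : A ⊓ centralizer (X : Set G) ≤ A ⊓ centralizer (N j : Set G) :=
      inf_le_inf_left _ (centralizer_le ((b.NV j).trans lv.VX))
    obtain ⟨B, hB, hBA⟩ := lv.fam.cut A hA _ hXB inf_le_left h1
    have hiff := fun k => cen_congr b lv hBA k
    refine ih B hB (fun hcon => peel_mv b lv hA hji.symm hi hj ((hiff i).1 hcon)) ?_
    have hsub : {k | ¬ B ≤ centralizer (N k : Set G)} ⊆ {k | ¬ A ≤ centralizer (N k : Set G)} \ {j} := by
      intro k hk
      refine ⟨fun hAk => hk ((hiff k).2 (inf_le_left.trans hAk)), ?_⟩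
      rintro rfl
      exact hk ((hiff _).2 inf_le_right)
    have h2 : ({k | ¬ A ≤ centralizer (N k : Set G)} \ {j}).ncard =
        {k | ¬ A ≤ centralizer (N k : Set G)}.ncard - 1 :=
      Set.ncard_sdiff_singleton_of_mem hj
    have h3 := Set.ncard_le_ncard hsub (Set.toFinite _)
    omega

/-- the elements of `M` which normalise every block -/
def K0 (M : Subgroup G) (N : ι → Subgroup G) : Subgroup G := M ⊓ ⨅ i, normalizer (N i : Set G)

omit b lv in
theorem mem_K0 {g : G} : g ∈ K0 M N ↔ g ∈ M ∧ ∀ i, cj g (N i) = N i := by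
  rw [K0, mem_inf, mem_iInf]
  exact and_congr_right fun _ => forall_congr' fun i => mem_normalizer_iff_cj

omit lv in
theorem K0_norm {g k : G} (hg : g ∈ M) (hk : k ∈ K0 M N) : g * k * g⁻¹ ∈ K0 M N := by
  rw [mem_K0] at hk ⊢
  refine ⟨mul_mem (mul_mem hg hk.1) (inv_mem hg), fun i => ?_⟩
  obtain ⟨j, hj, -⟩ := b.perm g⁻¹ (inv_mem hg) i
  rw [← cj_cj, ← cj_cj, hj, hk.2 j, ← hj, cj_cj, mul_inv_cancel, cj_one]

/-- **For every block a member of `AA` which acts on this block only.** -/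
theorem exists_A [Finite ι] (i : ι) :
    ∃ A ∈ AA, ¬ A ≤ centralizer (N i : Set G) ∧ ∀ j, j ≠ i → A ≤ centralizer (N j : Set G) := by
  obtain ⟨i₀, A₀, hA₀, hm₀⟩ := lv.mv
  obtain ⟨A, hA, h1, h2⟩ := exists_pure b lv i₀ _ A₀ hA₀ hm₀ le_rfl
  obtain ⟨g, hg, hgi⟩ := b.tr i₀ i
  have hAS := lv.fam.le A hA
  have hAM : A ≤ M := hAS.trans b.SM
  -- `A` lies in the kernel
  have hAK : A ≤ K0 M N := fun a ha => mem_K0.2 ⟨hAM ha, fun k =>
    (Lq.nC b (hAM ha) (nrm b lv hA k ha)).1⟩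
  have hTK : cj g A ≤ K0 M N := by
    rintro _ ⟨a, ha, rfl⟩
    exact K0_norm b hg (hAK ha)
  have hT : IsPGroup 2 (cj g A) := isPGroup_cj g (S.isPGroup'.to_le hAS)
  obtain ⟨m, hm, hmS⟩ := BFr.exists_into S (le_sup_right : (S : Subgroup G) ≤ K0 M N ⊔ (S : Subgroup G)) hT
    (hTK.trans le_sup_left)
  rw [sup_comm] at hm
  obtain ⟨s, hs, k, hk, rfl⟩ := mem_sup_norm (A := (S : Subgroup G)) (B := K0 M N)
    (fun s hs => mem_normalizer_iff.2 fun c => ⟨fun hc => K0_norm b (b.SM hs) hc, fun hc => by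
      have h3 := K0_norm b (inv_mem (b.SM hs)) hc
      have e1 : s⁻¹ * (s * c * s⁻¹) * s⁻¹⁻¹ = c := by group
      rwa [e1] at h3⟩) hm
  have hkM : k ∈ M := (mem_K0.1 hk).1
  have hkS : cj (k * g) A ≤ (S : Subgroup G) := by
    have h3 : cj s (cj k (cj g A)) ≤ (S : Subgroup G) := by rwa [cj_cj]
    have h4 := cj_mono s⁻¹ h3
    rw [cj_inv_cj, cj_eq_of_mem_normalizer (le_normalizer (inv_mem hs)), cj_cj] at h4
    exact h4
  have hkg : k * g ∈ M := mul_mem hkM hg
  have hcen : ∀ j j', cj (k * g) (N j) = N j' → (cj (k * g) A ≤ centralizer (N j' : Set G) ↔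
      A ≤ centralizer (N j : Set G)) := by
    intro j j' e
    rw [← e, ← cj_centralizer]
    constructor
    · intro h3
      have h4 := cj_mono (k * g)⁻¹ h3
      rwa [cj_inv_cj, cj_inv_cj] at h4
    · exact fun h3 => cj_mono _ h3
  refine ⟨cj (k * g) A, lv.fam.conj A hA (k * g) (lv.ML hkg) hkS, ?_, fun j hj => ?_⟩
  · rw [hcen i₀ i (by rw [← cj_cj, hgi, (mem_K0.1 hk).2])]
    exact h1
  · obtain ⟨j₀, hj₀, -⟩ := b.perm (k * g)⁻¹ (inv_mem hkg) j
    have e : cj (k * g) (N j₀) = N j := by rw [← hj₀, cj_cj, mul_inv_cancel, cj_one]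
    rw [hcen j₀ j e]
    refine h2 j₀ fun e0 => hj ?_
    rw [e0, ← cj_cj, hgi, (mem_K0.1 hk).2] at e
    exact (b.N_inj e).symm

end Cfsg.Agent.Omega.NOThreeL.RRed.BQ
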