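import Cfsg.Agent.Omega.NOThreeL.RRed.BQ.Cut

/-!
# NO-3L, box R, natural blocks, `q ≥ 4` : `X = V*` at the top level (step (4) of helper553's #27445)

`b : Bq S M V N D l C q`, `V ≤ X ≤ S` elementary abelian, `M`-invariant, `S` does not over-offend on `X`, one exact offender
`A ≤ S` with `C_A(V) ≤ C(X)`, `X = V C_X(A)`.

* `AX` : the offenders of this kind; `lvX` : they give level data `LvQ` (with `L = M`);
* **`vx_bq`** : if `C_S(V)` centralises `X` then `X ≤ V` (helper970's `core`; `A₇` on `2⁴` included).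
-/

set_option autoImplicit false
set_option linter.unusedSectionVars false

namespace Cfsg.Agent.Omega.NOThreeL.RRed.BQ

open Subgroup Cfsg Cfsg.Agent.ZN Cfsg.Agent.ZN.ChoiceBase
open Cfsg.Agent.Omega.SQ1.Bau (mem_sup_comm card_sup_comm elem_comm elem_sq mem_sup_norm)
open Cfsg.Agent.Omega.FFThm (ElemM NoOverM)
open Cfsg.Agent.Omega.NO3S.OneLine (BFam bo bo_fam)
open Cfsg.Agent.Omega.NOThreeL.RRed.QFr

universe u

variable {G : Type u} [Group G]

/-- The offenders of the type in `(NOX)`. -/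
def AX (S V X : Subgroup G) : Set (Subgroup G) :=
  {A | A ∈ bo S X ∧ A ⊓ centralizer (V : Set G) ≤ centralizer (X : Set G) ∧ X ≤ V ⊔ (X ⊓ centralizer (A : Set G))}

variable [Finite G] {ι : Type} {S : Sylow 2 G} {M V X : Subgroup G} {N D l C : ι → Subgroup G} {q : ℕ}

/-- An exact `A` with `X = V C_X(A)` is a best offender on `X`. -/
theorem bo_of {S : Subgroup G} (hXc : ∀ x ∈ X, ∀ y ∈ X, x * y = y * x) (hVX : V ≤ X) (noX : NoOverM X S) {A : Subgroup G}
    (hA : A ≤ S) (hE : ElemM X A) (hc : A ⊓ centralizer (V : Set G) ≤ centralizer (X : Set G))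
    (hX : X ≤ V ⊔ (X ⊓ centralizer (A : Set G)))
    (ex : Nat.card A * Nat.card ↥(V ⊓ centralizer (A : Set G)) = Nat.card V * Nat.card ↥(A ⊓ centralizer (V : Set G))) :
    A ∈ bo S X := by
  have h1 : A ⊓ centralizer (V : Set G) = A ⊓ centralizer (X : Set G) :=
    le_antisymm (le_inf inf_le_left hc) (inf_le_inf_left _ (centralizer_le hVX))
  have h2 : V ⊔ (X ⊓ centralizer (A : Set G)) = X := le_antisymm (sup_le hVX inf_le_left) hX
  have h3 := card_sup_comm (A := V) (B := X ⊓ centralizer (A : Set G)) fun v hv x hx => hXc v (hVX hv) x hx.1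
  have h4 : V ⊓ (X ⊓ centralizer (A : Set G)) = V ⊓ centralizer (A : Set G) := by
    rw [← inf_assoc, inf_eq_left.2 hVX]
  rw [h2, h4] at h3
  have h5 : Nat.card A * Nat.card ↥(X ⊓ centralizer (A : Set G)) = Nat.card X * Nat.card ↥(A ⊓ centralizer (X : Set G)) := by
    refine Nat.eq_of_mul_eq_mul_left (Nat.card_pos (α := V)) ?_
    calc Nat.card V * (Nat.card A * Nat.card ↥(X ⊓ centralizer (A : Set G)))
        = Nat.card A * (Nat.card V * Nat.card ↥(X ⊓ centralizer (A : Set G))) := by ring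
      _ = Nat.card A * (Nat.card X * Nat.card ↥(V ⊓ centralizer (A : Set G))) := by rw [h3]
      _ = (Nat.card A * Nat.card ↥(V ⊓ centralizer (A : Set G))) * Nat.card X := by ring
      _ = Nat.card V * (Nat.card X * Nat.card ↥(A ⊓ centralizer (X : Set G))) := by rw [ex, h1]; ring
  refine ⟨hA, hE, fun B hB hBA => ?_⟩
  have hEB : ElemM X B := ⟨fun b hb => hE.sq b (hBA hb), fun b hb c hc => hE.comm b (hBA hb) c (hBA hc)⟩
  have h6 := noX B (hBA.trans hA) hEB
  have h7 : B ⊓ centralizer (X : Set G) = A ⊓ centralizer (X : Set G) :=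
    le_antisymm (inf_le_inf_right _ hBA) (le_inf hB inf_le_right)
  rw [h7, ← h5] at h6
  exact h6

/-- **The level data for the offenders `AX`.** -/
theorem lvX (b : Bq S M V N D l C q) (hVX : V ≤ X) (elX : IsElementaryAbelian 2 X) (hXS : X ≤ (S : Subgroup G))
    (hMX : ∀ m ∈ M, ∀ x ∈ X, m * x * m⁻¹ ∈ X) {A : Subgroup G} (hA : A ∈ AX (S : Subgroup G) V X)
    (hne : ¬ A ≤ centralizer (V : Set G)) :
    LvQ S M V N X M (sSup (AX (S : Subgroup G) V X)) (AX (S : Subgroup G) V X) where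
  ML := le_rfl
  fam := by
    have hb := bo_fam (S : Subgroup G) X
    refine ⟨fun A hA => hA.1.1, fun A hA => hA.1.2.1, fun A hA => hA.1.2.2, fun A hA B hAB hBA he => ?_,
      fun A hA g hg hle => ?_⟩
    · refine ⟨B, ⟨⟨hBA.trans hA.1.1, ⟨fun a ha => hA.1.2.1.sq a (hBA ha), fun a ha c hc =>
        hA.1.2.1.comm a (hBA ha) c (hBA hc)⟩, fun E hE hEB => ?_⟩, (inf_le_inf_right _ hBA).trans hA.2.1,
        hA.2.2.trans (sup_le_sup_left (inf_le_inf_left _ (centralizer_le hBA)) _)⟩, rfl⟩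
      rw [he]
      exact hA.1.2.2 E ((le_inf hAB inf_le_right).trans hE) (hEB.trans hBA)
    · have hgX : g ∈ normalizer (X : Set G) := by
        rw [mem_normalizer_iff]
        refine fun x => ⟨fun hx => hMX g hg x hx, fun hx => ?_⟩
        have h1 := hMX g⁻¹ (inv_mem hg) _ hx
        have e : g⁻¹ * (g * x * g⁻¹) * g⁻¹⁻¹ = x := by group
        rwa [e] at h1
      have hgV : g ∈ normalizer (V : Set G) := by
        rw [mem_normalizer_iff]
        refine fun x => ⟨fun hx => b.MV g hg x hx, fun hx => ?_⟩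
        have h1 := b.MV g⁻¹ (inv_mem hg) _ hx
        have e : g⁻¹ * (g * x * g⁻¹) * g⁻¹⁻¹ = x := by group
        rwa [e] at h1
      have eX := cj_eq_of_mem_normalizer hgX
      have eV := cj_eq_of_mem_normalizer hgV
      refine ⟨hb.conj A hA.1 g hgX hle, ?_, ?_⟩
      · have h1 := cj_mono g hA.2.1
        rwa [cj_inf, cj_centralizer, cj_centralizer, eV, eX] at h1
      · have h1 := cj_mono g hA.2.2
        rw [eX] at h1
        refine h1.trans ?_
        rintro _ ⟨y, hy, rfl⟩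
        have h2 : ∀ y ∈ V ⊔ (X ⊓ centralizer (A : Set G)), g * y * g⁻¹ ∈ V ⊔ (X ⊓ centralizer (cj g A : Set G)) := by
          have h3 : V ⊔ (X ⊓ centralizer (A : Set G)) ≤
              (V ⊔ (X ⊓ centralizer (cj g A : Set G))).comap (MulAut.conj g).toMonoidHom := by
            refine sup_le (fun v hv => mem_sup_left (b.MV g hg v hv)) fun x hx => mem_sup_right ?_
            have h4 : g * x * g⁻¹ ∈ cj g (X ⊓ centralizer (A : Set G)) := ⟨x, hx, rfl⟩
            rwa [cj_inf, cj_centralizer, eX] at h4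
          exact fun y hy => h3 hy
        exact h2 y hy
  elX := elX
  VX := hVX
  XS := hXS
  MX := hMX
  AJ A hA := le_sSup hA
  JS := sSup_le fun A hA => hA.1.1
  Jg := le_sup_left
  mv := by
    by_contra hcon
    push Not at hcon
    apply hne
    have h1 : (⨆ i, N i) ≤ centralizer (A : Set G) := iSup_le fun i => le_centralizer_iff.1 (hcon i A hA)
    exact le_centralizer_iff.1 (b.sup.trans h1)

/-- **`X = V`.** -/
theorem vx_bq [Finite ι] (b : Bq S M V N D l C q) (hVX : V ≤ X) (elX : IsElementaryAbelian 2 X)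
    (hXS : X ≤ (S : Subgroup G)) (hMX : ∀ m ∈ M, ∀ x ∈ X, m * x * m⁻¹ ∈ X) (hZV : zc (S : Subgroup G) ≤ V)
    (noX : NoOverM X (S : Subgroup G))
    (hA : ∃ A : Subgroup G, A ≤ (S : Subgroup G) ∧ ElemM X A ∧ ¬ A ≤ centralizer (V : Set G) ∧
      A ⊓ centralizer (V : Set G) ≤ centralizer (X : Set G) ∧ X ≤ V ⊔ (X ⊓ centralizer (A : Set G)) ∧
      Nat.card A * Nat.card ↥(V ⊓ centralizer (A : Set G)) = Nat.card V * Nat.card ↥(A ⊓ centralizer (V : Set G)))
    (hQ : (S : Subgroup G) ⊓ centralizer (V : Set G) ≤ centralizer (X : Set G)) : X ≤ V := by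
  have hXc := elem_comm elX
  obtain ⟨A, hAS, hE, hne, hc, hX, ex⟩ := hA
  have lv := lvX b hVX elX hXS hMX (A := A) ⟨bo_of hXc hVX noX hAS hE hc hX ex, hc, hX⟩ hne
  refine core b hVX hXc (fun y hy => by rw [← pow_two]; exact elem_sq elX y hy) hMX (fun k hk y hy => ?_) (fun i => ?_)
    fun y hy hyS => ?_
  · refine comm_of_two b hy (fun k hk hk' => ?_) hk
    obtain ⟨hkM, hkV, -⟩ := mem_Kr.1 hk
    obtain ⟨m, hm, hmS⟩ := BFr.exists_into S b.SM hk' (by rw [zpowers_le]; exact hkM)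
    have h1 : m * k * m⁻¹ ∈ (S : Subgroup G) := hmS ⟨k, mem_zpowers k, rfl⟩
    have h2 : m * k * m⁻¹ ∈ (S : Subgroup G) ⊓ centralizer (V : Set G) := by
      refine ⟨h1, mem_centralizer_iff.2 fun v hv => ?_⟩
      have h3 := b.MV m⁻¹ (inv_mem hm) v hv
      rw [inv_inv] at h3
      have h4 := hkV _ h3
      calc v * (m * k * m⁻¹) = m * ((m⁻¹ * v * m) * k) * m⁻¹ := by group
        _ = m * k * m⁻¹ * v := by rw [← h4]; group
    have h3 := (mem_centralizer_iff.1 (hQ h2) _ (hMX m hm y hy)).symm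
    have h4 := congrArg (fun t => m⁻¹ * t * m) h3
    simpa [mul_assoc] using h4
  · obtain ⟨A', w, -, h1, h2⟩ := exists_gd (Y := X) b lv le_rfl (fun B hB hBV b' hb' y hy =>
      (mem_centralizer_iff.1 (hB.2.1 ⟨hb', hBV hb'⟩) y hy).symm) i
    exact ⟨A', w, h1, h2⟩
  · exact hZV (ChoiceBase.mem_zc.2 ⟨hXS hy, elem_sq elX y hy, hyS⟩)

end Cfsg.Agent.Omega.NOThreeL.RRed.BQ
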