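import Cfsg.Agent.Omega.NOThreeL.RRed.BQ.Weyl
import Cfsg.Agent.Omega.NOThreeL.RRed.BFr.Cut

/-!
# NO-3L, box R, natural blocks : no fixed points outside `V`

* `core` : `V ≤ Y` abelian, `M`-invariant; for every block a member acting on this block only which is good on `Y`; the elements of
  `M` centralising `V` and `Y / V` centralise `Y`; `C_Y(S) ≤ V`; then `Y ≤ V`;
* `gd` : members of `AA` are good; **`zcQ`** : `Ω₁(Z(C_S(V))) ≤ V`; **`le_of_cent`** : `S`-invariant subgroups of `C_X(J)` lie in `V`.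
-/

set_option autoImplicit false
set_option linter.unusedSectionVars false

namespace Cfsg.Agent.Omega.NOThreeL.RRed.BQ

open Subgroup Cfsg Cfsg.Agent.ZN Cfsg.Agent.ZN.ChoiceBase
open Cfsg.Agent.Omega.SQ1.Bau (mem_sup_comm card_sup_comm elem_comm elem_sq mem_sup_norm)
open Cfsg.Agent.Omega.OM.Lev.Uni (Best)
open Cfsg.Agent.Omega.FFThm (ElemM)
open Cfsg.Agent.Omega.NO3S.OneLine (BFam)
open Cfsg.Agent.Omega.NOThreeL.RRed.QFr

universe u

variable {G : Type u} [Group G]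

/-- the elements of `M` which act trivially on `Y / V` -/
def Mq (M V Y : Subgroup G) (hMV : ∀ g ∈ M, ∀ v ∈ V, g * v * g⁻¹ ∈ V) : Subgroup G where
  carrier := {k | k ∈ M ∧ ∀ y ∈ Y, k * y * k⁻¹ * y⁻¹ ∈ V}
  mul_mem' := by
    rintro a b ⟨ha, ha2⟩ ⟨hb, hb2⟩
    refine ⟨mul_mem ha hb, fun y hy => ?_⟩
    have e : a * b * y * (a * b)⁻¹ * y⁻¹ = (a * (b * y * b⁻¹ * y⁻¹) * a⁻¹) * (a * y * a⁻¹ * y⁻¹) := by group
    rw [e]
    exact mul_mem (hMV a ha _ (hb2 y hy)) (ha2 y hy)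
  one_mem' := ⟨one_mem _, fun y _ => by simp⟩
  inv_mem' := by
    rintro a ⟨ha, ha2⟩
    refine ⟨inv_mem ha, fun y hy => ?_⟩
    have e : a⁻¹ * y * a⁻¹⁻¹ * y⁻¹ = a⁻¹ * (a * y * a⁻¹ * y⁻¹)⁻¹ * a⁻¹⁻¹ := by group
    rw [e]
    exact hMV _ (inv_mem ha) _ (inv_mem (ha2 y hy))

/-- the elements of `M` which act on `V` like an element of `D` -/
def Md (M V D : Subgroup G) (hMV : ∀ g ∈ M, ∀ v ∈ V, g * v * g⁻¹ ∈ V) (hDM : D ≤ M) : Subgroup G where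
  carrier := {k | k ∈ M ∧ ∃ d ∈ D, ∀ v ∈ V, k * v * k⁻¹ = d * v * d⁻¹}
  mul_mem' := by
    rintro a b ⟨ha, d, hd, ha2⟩ ⟨hb, d', hd', hb2⟩
    refine ⟨mul_mem ha hb, d * d', mul_mem hd hd', fun v hv => ?_⟩
    have e : a * b * v * (a * b)⁻¹ = a * (b * v * b⁻¹) * a⁻¹ := by group
    rw [e, hb2 v hv, ha2 _ (hMV d' (hDM hd') v hv)]
    group
  one_mem' := ⟨one_mem _, 1, one_mem _, fun _ _ => rfl⟩
  inv_mem' := by
    rintro a ⟨ha, d, hd, ha2⟩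
    refine ⟨inv_mem ha, d⁻¹, inv_mem hd, fun v hv => ?_⟩
    have h1 := hMV a⁻¹ (inv_mem ha) v hv
    have h2 := ha2 _ h1
    have e1 : a * (a⁻¹ * v * a⁻¹⁻¹) * a⁻¹ = v := by group
    rw [e1] at h2
    calc a⁻¹ * v * a⁻¹⁻¹ = d⁻¹ * (d * (a⁻¹ * v * a⁻¹⁻¹) * d⁻¹) * d⁻¹⁻¹ := by group
      _ = _ := by rw [← h2]

/-- the elements of `M` which centralise `V` and `Y / V` -/
def Kr (M V Y : Subgroup G) (hMV : ∀ g ∈ M, ∀ v ∈ V, g * v * g⁻¹ ∈ V) : Subgroup G := Mq M V Y hMV ⊓ centralizer (V : Set G)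

theorem mem_Kr {M V Y : Subgroup G} {hMV : ∀ g ∈ M, ∀ v ∈ V, g * v * g⁻¹ ∈ V} {k : G} :
    k ∈ Kr M V Y hMV ↔ k ∈ M ∧ (∀ v ∈ V, k * v = v * k) ∧ ∀ y ∈ Y, k * y * k⁻¹ * y⁻¹ ∈ V := by
  rw [Kr, mem_inf, mem_centralizer_iff]
  constructor
  · rintro ⟨⟨h1, h2⟩, h3⟩
    exact ⟨h1, fun v hv => (h3 v hv).symm, h2⟩
  · rintro ⟨h1, h2, h3⟩
    exact ⟨⟨h1, h3⟩, fun v hv => (h2 v hv).symm⟩

variable [Finite G] {ι : Type} {S : Sylow 2 G} {M V : Subgroup G} {N D l C : ι → Subgroup G} {q : ℕ}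
  {X L J Y : Subgroup G} {AA : Set (Subgroup G)}

section core

variable (b : Bq S M V N D l C q)
include b

/-- the fixed points of `A`, `A^w` on `V` -/
theorem Wy.mem_C {A : Subgroup G} {w : G} {i : ι} (h : Wy M V N D l C A w i) {v : G} (hv : v ∈ V)
    (h1 : ∀ a ∈ A, a * v = v * a) (h2 : ∀ a ∈ A, w * a * w⁻¹ * v = v * (w * a * w⁻¹)) : v ∈ C i := by
  obtain ⟨n, hn, c, hc, rfl⟩ := b.WC i v hv
  have hwc : w * c = c * w := b.DC i w h.wD c hc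
  have h3 : n ∈ l i := by
    refine h.fix n hn fun a ha => ?_
    have c1 : Commute a (n * c) := h1 a ha
    have c2 : Commute a c := h.Ac a ha c hc
    have e : n = n * c * c⁻¹ := by group
    rw [e]
    exact (c1.mul_right c2.inv_right).eq
  have hwn : w⁻¹ * n * w ∈ N i := by
    obtain ⟨F, _, _, _, e, hF, c, s⟩ := b.nat i
    have h4 := s.nD w⁻¹ (inv_mem h.wD) n hn
    rwa [inv_inv] at h4
  have h4 : w⁻¹ * n * w ∈ l i := by
    refine h.fix _ hwn fun a ha => ?_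
    have c1 : Commute (w * a * w⁻¹) (n * c) := h2 a ha
    have c3 : Commute w c := hwc
    have c4 : Commute a c := h.Ac a ha c hc
    have c2 : Commute (w * a * w⁻¹) c := (c3.mul_left c4).mul_left c3.inv_left
    have e : n = n * c * c⁻¹ := by group
    have c5 : w * a * w⁻¹ * n = n * (w * a * w⁻¹) := by
      conv_lhs => rw [e]
      conv_rhs => rw [e]
      exact (c1.mul_right c2.inv_right).eq
    have h5 := congrArg (fun t => w⁻¹ * t * w) c5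
    calc a * (w⁻¹ * n * w) = w⁻¹ * (w * a * w⁻¹ * n) * w := by group
      _ = w⁻¹ * (n * (w * a * w⁻¹)) * w := h5
      _ = w⁻¹ * n * w * a := by group
  have h5 := h.ll n h3 h4
  rw [h5, one_mul]
  exact hc

/-- `A^w` centralises `C i` -/
theorem Wy.Awc {A : Subgroup G} {w : G} {i : ι} (h : Wy M V N D l C A w i) {a : G} (ha : a ∈ A) {c : G} (hc : c ∈ C i) :
    Commute (w * a * w⁻¹) c := by
  have c1 : Commute w c := b.DC i w h.wD c hc
  have c2 : Commute a c := h.Ac a ha c hc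
  exact (c1.mul_left c2).mul_left c1.inv_left

/-- the elements of `M` acting trivially on `Y / V` and like `D i` on `V` -/
def Gs (Y : Subgroup G) (i : ι) : Subgroup G := Mq M V Y b.MV ⊓ Md M V (D i) b.MV (b.DM i)

theorem co_mem {g : G} (hg : g ∈ M) (hYc : ∀ x ∈ Y, ∀ y ∈ Y, x * y = y * x) (hVY : V ≤ Y) {y n : G} (hy : y ∈ Y)
    (hn : n ∈ V) (e : g * (y * n) = y * n * g) : g * y * g⁻¹ * y⁻¹ ∈ V := by
  have h1 : g * n⁻¹ * g⁻¹ ∈ V := b.MV g hg _ (inv_mem hn)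
  have e1 : g * y * g⁻¹ = y * n * (g * n⁻¹ * g⁻¹) := by
    calc g * y * g⁻¹ = (g * (y * n)) * n⁻¹ * g⁻¹ := by group
      _ = y * n * (g * n⁻¹ * g⁻¹) := by rw [e]; group
  rw [e1]
  have e2 : y * n * (g * n⁻¹ * g⁻¹) * y⁻¹ = y * (n * (g * n⁻¹ * g⁻¹)) * y⁻¹ := by group
  have h2 := mul_mem hn h1
  rw [e2, hYc y hy _ (hVY h2), mul_inv_cancel_right]
  exact h2

/-- the two members lie in `Gs` -/
theorem sup_le_Gs {A : Subgroup G} {w : G} {i : ι} (h : Wy M V N D l C A w i) (hYc : ∀ x ∈ Y, ∀ y ∈ Y, x * y = y * x)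
    (hVY : V ≤ Y) (hMY : ∀ m ∈ M, ∀ y ∈ Y, m * y * m⁻¹ ∈ Y)
    (hg : ∀ y ∈ Y, ∃ n ∈ N i, ∀ a ∈ A, a * (y * n) = y * n * a) : A ⊔ cj w A ≤ Gs b Y i := by
  have hwM : w ∈ M := b.DM i h.wD
  have hA : A ≤ Gs b Y i := fun a ha => by
    refine ⟨⟨h.AM ha, fun y hy => ?_⟩, h.AM ha, h.act a ha⟩
    obtain ⟨n, hn, e⟩ := hg y hy
    exact co_mem b (h.AM ha) hYc hVY hy (b.NV i hn) (e a ha)
  refine sup_le hA ?_
  rintro _ ⟨a, ha, rfl⟩
  obtain ⟨⟨h1, h2⟩, -, d, hd, h3⟩ := hA ha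
  have hM : w * a * w⁻¹ ∈ M := mul_mem (mul_mem hwM h1) (inv_mem hwM)
  refine ⟨⟨hM, fun y hy => ?_⟩, hM, w * d * w⁻¹, mul_mem (mul_mem h.wD hd) (inv_mem h.wD), fun v hv => ?_⟩
  · have h4 := hMY w⁻¹ (inv_mem hwM) y hy
    have h5 := b.MV w hwM _ (h2 _ h4)
    have e : w * (a * (w⁻¹ * y * w⁻¹⁻¹) * a⁻¹ * (w⁻¹ * y * w⁻¹⁻¹)⁻¹) * w⁻¹ = w * a * w⁻¹ * y * (w * a * w⁻¹)⁻¹ * y⁻¹ := by
      group
    rwa [e] at h5
  · have h4 := h3 _ (b.MV w⁻¹ (inv_mem hwM) v hv)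
    have h5 := congrArg (fun t => w * t * w⁻¹) h4
    show w * a * w⁻¹ * v * (w * a * w⁻¹)⁻¹ = _
    calc w * a * w⁻¹ * v * (w * a * w⁻¹)⁻¹ = w * (a * (w⁻¹ * v * w⁻¹⁻¹) * a⁻¹) * w⁻¹ := by group
      _ = w * (d * (w⁻¹ * v * w⁻¹⁻¹) * d⁻¹) * w⁻¹ := h5
      _ = _ := by group

/-- **No fixed points outside `V`.** -/
theorem core [Finite ι] (hVY : V ≤ Y) (hYc : ∀ x ∈ Y, ∀ y ∈ Y, x * y = y * x) (hY2 : ∀ y ∈ Y, y * y = 1)
    (hMY : ∀ m ∈ M, ∀ y ∈ Y, m * y * m⁻¹ ∈ Y)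
    (hK : ∀ k ∈ Kr M V Y b.MV, ∀ y ∈ Y, k * y = y * k)
    (hG : ∀ i, ∃ (A : Subgroup G) (w : G), Wy M V N D l C A w i ∧ ∀ y ∈ Y, ∃ n ∈ N i, ∀ a ∈ A, a * (y * n) = y * n * a)
    (hfix : ∀ y ∈ Y, (∀ s ∈ S, s * y = y * s) → y ∈ V) : Y ≤ V := by
  classical
  have := Fintype.ofFinite ι
  choose A w hW hg using hG
  have hsup : ∀ i, A i ⊔ cj (w i) (A i) ≤ Gs b Y i := fun i => sup_le_Gs b (hW i) hYc hVY hMY (hg i)
  -- the fixed points
  let C₀ : Subgroup G := Y ⊓ ⨅ i, centralizer (Gs b Y i : Set G)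
  have memC₀ : ∀ c, c ∈ C₀ ↔ c ∈ Y ∧ ∀ i, ∀ g ∈ Gs b Y i, g * c = c * g := by
    intro c
    show c ∈ Y ⊓ ⨅ i, centralizer (Gs b Y i : Set G) ↔ _
    rw [mem_inf, mem_iInf]
    exact and_congr_right fun _ => forall_congr' fun i => mem_centralizer_iff
  have hCV : ∀ c ∈ C₀, c ∈ V → c = 1 := by
    intro c hc hcV
    rw [memC₀] at hc
    refine b.C0 c hcV fun i => Wy.mem_C b (hW i) hcV (fun a ha => hc.2 i a (hsup i (mem_sup_left ha))) fun a ha =>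
      hc.2 i _ (hsup i (mem_sup_right ⟨a, ha, rfl⟩))
  have hCS : ∀ s ∈ (S : Subgroup G), ∀ c ∈ C₀, s * c * s⁻¹ ∈ C₀ := by
    intro s hs c hc
    have hsM := b.SM hs
    rw [memC₀] at hc ⊢
    refine ⟨hMY s hsM c hc.1, fun i g hg => ?_⟩
    obtain ⟨j, -, -, hj⟩ := b.permS s⁻¹ (inv_mem hs) i
    obtain ⟨⟨h1, h2⟩, -, d, hd, h3⟩ := hg
    have hM : s⁻¹ * g * s⁻¹⁻¹ ∈ M := mul_mem (mul_mem (inv_mem hsM) h1) (inv_mem (inv_mem hsM))
    have h4 : s⁻¹ * g * s⁻¹⁻¹ ∈ Gs b Y j := by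
      refine ⟨⟨hM, fun y hy => ?_⟩, hM, s⁻¹ * d * s⁻¹⁻¹, hj ▸ ⟨d, hd, rfl⟩, fun v hv => ?_⟩
      · have h5 := b.MV s⁻¹ (inv_mem hsM) _ (h2 _ (hMY s hsM y hy))
        have e : s⁻¹ * (g * (s * y * s⁻¹) * g⁻¹ * (s * y * s⁻¹)⁻¹) * s⁻¹⁻¹ =
            s⁻¹ * g * s⁻¹⁻¹ * y * (s⁻¹ * g * s⁻¹⁻¹)⁻¹ * y⁻¹ := by group
        rwa [e] at h5
      · have h5 := congrArg (fun t => s⁻¹ * t * s) (h3 _ (b.MV s hsM v hv))
        calc s⁻¹ * g * s⁻¹⁻¹ * v * (s⁻¹ * g * s⁻¹⁻¹)⁻¹ = s⁻¹ * (g * (s * v * s⁻¹) * g⁻¹) * s := by group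
          _ = s⁻¹ * (d * (s * v * s⁻¹) * d⁻¹) * s := h5
          _ = _ := by group
    have h5 := congrArg (fun t => s * t * s⁻¹) (hc.2 j _ h4)
    calc g * (s * c * s⁻¹) = s * (s⁻¹ * g * s⁻¹⁻¹ * c) * s⁻¹ := by group
      _ = s * (c * (s⁻¹ * g * s⁻¹⁻¹)) * s⁻¹ := h5
      _ = _ := by group
  have hC1 : C₀ = ⊥ := by
    by_contra hne
    have hC2 : ∀ c ∈ C₀, c * c = 1 := fun c hc => hY2 c ((memC₀ c).1 hc).1
    obtain ⟨c, hc, hc1, hcS⟩ := BFr.exists_fix_ne S.isPGroup' hC2 hne hCS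
    exact hc1 (hCV c hc (hfix c ((memC₀ c).1 hc).1 hcS))
  intro y hy
  -- the splitting
  have key : ∀ t : Finset ι, ∃ v ∈ V, ∀ i ∈ t, ∀ a ∈ A i, Commute a (y * v) ∧ Commute (w i * a * (w i)⁻¹) (y * v) := by
    intro t
    induction t using Finset.induction_on with
    | empty => exact ⟨1, one_mem _, fun i hi => absurd hi (Finset.notMem_empty i)⟩
    | insert j t hj ih =>
      obtain ⟨v, hv, h1⟩ := ih
      have hyv : y * v ∈ Y := mul_mem hy (hVY hv)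
      have hwM := b.DM j (hW j).wD
      obtain ⟨n₁, hn₁, h2⟩ := hg j (y * v) hyv
      obtain ⟨n₂, hn₂, h3⟩ := hg j _ (hMY (w j)⁻¹ (inv_mem hwM) (y * v) hyv)
      obtain ⟨F, _, _, _, e, hF, c, s⟩ := b.nat j
      have hn₃ : w j * n₂ * (w j)⁻¹ ∈ N j := s.nD _ (hW j).wD n₂ hn₂
      obtain ⟨p, hp, p', hp', hpe⟩ := (hW j).split (n₁⁻¹ * (w j * n₂ * (w j)⁻¹)) (mul_mem (inv_mem hn₁) hn₃)
      have hpN := b.lN j hp
      have hpN' : w j * p' * (w j)⁻¹ ∈ N j := s.nD _ (hW j).wD p' (b.lN j hp')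
      have hnN : n₁ * p ∈ N j := mul_mem hn₁ hpN
      refine ⟨v * (n₁ * p), mul_mem hv (b.NV j hnN), fun i hi a ha => ?_⟩
      by_cases hij : i = j
      · subst hij
        constructor
        · have c1 : Commute a (y * v * n₁) := h2 a ha
          have c2 : Commute a p := (hW i).Al a ha p hp
          have e1 : y * (v * (n₁ * p)) = (y * v * n₁) * p := by group
          rw [e1]
          exact c1.mul_right c2
        · have e1 : y * (v * (n₁ * p)) = (y * v) * (w i * n₂ * (w i)⁻¹) * (w i * p' * (w i)⁻¹)⁻¹ := by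
            have e2 : n₁ * p = (w i * n₂ * (w i)⁻¹) * (w i * p' * (w i)⁻¹)⁻¹ := by
              have e3 : n₁ * p * (w i * p' * (w i)⁻¹) = w i * n₂ * (w i)⁻¹ := by
                rw [mul_assoc, ← hpe]; group
              rw [← e3]; group
            rw [e2]; group
          have c1 : Commute (w i * a * (w i)⁻¹) ((y * v) * (w i * n₂ * (w i)⁻¹)) := by
            have h4 := congrArg (fun t => w i * t * (w i)⁻¹) (h3 a ha)
            show w i * a * (w i)⁻¹ * ((y * v) * (w i * n₂ * (w i)⁻¹)) = _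
            calc w i * a * (w i)⁻¹ * ((y * v) * (w i * n₂ * (w i)⁻¹)) =
                w i * (a * ((w i)⁻¹ * (y * v) * (w i)⁻¹⁻¹ * n₂)) * (w i)⁻¹ := by group
              _ = w i * ((w i)⁻¹ * (y * v) * (w i)⁻¹⁻¹ * n₂ * a) * (w i)⁻¹ := h4
              _ = _ := by group
          have c2 : Commute (w i * a * (w i)⁻¹) (w i * p' * (w i)⁻¹) := by
            have h4 := congrArg (fun t => w i * t * (w i)⁻¹) ((hW i).Al a ha p' hp')
            show w i * a * (w i)⁻¹ * (w i * p' * (w i)⁻¹) = _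
            calc w i * a * (w i)⁻¹ * (w i * p' * (w i)⁻¹) = w i * (a * p') * (w i)⁻¹ := by group
              _ = w i * (p' * a) * (w i)⁻¹ := h4
              _ = _ := by group
          rw [e1]
          exact c1.mul_right c2.inv_right
      · have hit : i ∈ t := (Finset.mem_insert.1 hi).resolve_left hij
        obtain ⟨h4, h5⟩ := h1 i hit a ha
        have hnC : n₁ * p ∈ C i := b.WjC i j hij hnN
        have e1 : y * (v * (n₁ * p)) = (y * v) * (n₁ * p) := by group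
        rw [e1]
        exact ⟨h4.mul_right ((hW i).Ac a ha _ hnC), h5.mul_right (Wy.Awc b (hW i) ha hnC)⟩
  obtain ⟨v, hv, h1⟩ := key Finset.univ
  have hyv : y * v ∈ C₀ := by
    refine (memC₀ _).2 ⟨mul_mem hy (hVY hv), fun i g hg' => ?_⟩
    have hcom : A i ⊔ cj (w i) (A i) ≤ centralizer ({y * v} : Set G) := by
      refine sup_le (fun a ha => mem_centralizer_singleton_iff.2 (h1 i (Finset.mem_univ i) a ha).1.eq) ?_
      rintro _ ⟨a, ha, rfl⟩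
      exact mem_centralizer_singleton_iff.2 (h1 i (Finset.mem_univ i) a ha).2.eq
    obtain ⟨⟨h2, h3⟩, -, d, hd, h4⟩ := hg'
    obtain ⟨k, hk, h5⟩ := (hW i).gen d hd
    obtain ⟨h6, -⟩ := hsup i hk
    have hkg : k⁻¹ * g ∈ Kr M V Y b.MV := by
      have h7 : k⁻¹ * g ∈ Mq M V Y b.MV := mul_mem (inv_mem h6) ⟨h2, h3⟩
      refine mem_Kr.2 ⟨h7.1, fun x hx => ?_, h7.2⟩
      have h8 : g * x * g⁻¹ = k * x * k⁻¹ := (h4 x hx).trans (h5 x hx).symm
      calc k⁻¹ * g * x = k⁻¹ * (g * x * g⁻¹) * g := by group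
        _ = k⁻¹ * (k * x * k⁻¹) * g := by rw [h8]
        _ = x * (k⁻¹ * g) := by group
    have c1 : Commute (k⁻¹ * g) (y * v) := hK _ hkg _ (mul_mem hy (hVY hv))
    have c2 : Commute k (y * v) := mem_centralizer_singleton_iff.1 (hcom hk)
    have e1 : g = k * (k⁻¹ * g) := by group
    rw [e1]
    exact (c2.mul_left c1).eq
  rw [hC1, mem_bot, mul_eq_one_iff_eq_inv] at hyv
  rw [hyv]
  exact inv_mem hv

/-- The elements of `K` of 2-power order decide. -/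
theorem comm_of_two {y : G} (hy : y ∈ Y) (h2 : ∀ k ∈ Kr M V Y b.MV, IsPGroup 2 (zpowers k) → k * y = y * k) {k : G}
    (hk : k ∈ Kr M V Y b.MV) : k * y = y * k := by
  obtain ⟨hkM, hkV, hk2⟩ := mem_Kr.1 hk
  have hsq : (k * k) * y = y * (k * k) := by
    have h3 := hk2 y hy
    set v := k * y * k⁻¹ * y⁻¹ with hv
    have e1 : k * y = v * y * k := by rw [hv]; group
    have e2 : k * v = v * k := hkV v h3
    have e3 : v * v = 1 := by rw [← pow_two]; exact elem_sq b.el v h3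
    calc k * k * y = k * (k * y) := by group
      _ = (k * v) * y * k := by rw [e1]; group
      _ = v * (k * y) * k := by rw [e2]; group
      _ = (v * v) * y * (k * k) := by rw [e1]; group
      _ = y * (k * k) := by rw [e3, one_mul]
  obtain ⟨a, m, hm, hn⟩ := Nat.exists_eq_two_pow_mul_odd (n := orderOf k) (orderOf_pos k).ne'
  have h3 : k ^ m ∈ Kr M V Y b.MV := (Kr M V Y b.MV).pow_mem hk m
  have h4 : IsPGroup 2 (zpowers (k ^ m)) := by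
    refine IsPGroup.of_card (n := a) ?_
    rw [Nat.card_zpowers, orderOf_pow, hn, Nat.gcd_eq_right (Dvd.intro_left _ rfl), Nat.mul_div_cancel _ hm.pos]
  have h5 := h2 _ h3 h4
  obtain ⟨j, hj⟩ := hm
  have e1 : k = k ^ m * ((k * k) ^ j)⁻¹ := by
    rw [hj, ← pow_two, ← pow_mul, pow_succ']
    group
  have c1 : Commute (k ^ m) y := h5
  have c2 : Commute (k * k) y := hsq
  rw [e1]
  exact (c1.mul_left (c2.pow_left j).inv_left).eq

/-- `[k^l, w] = [k, w]^l` -/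
theorem phi_conj {k w l : G} (hk : ∀ v ∈ V, k * v = v * k) (hu : k * w * k⁻¹ * w⁻¹ ∈ V) (hc : l⁻¹ * w * l * w⁻¹ ∈ V) :
    l * k * l⁻¹ * w * (l * k * l⁻¹)⁻¹ * w⁻¹ = l * (k * w * k⁻¹ * w⁻¹) * l⁻¹ := by
  have uc := b.Vc hu hc
  set u := k * w * k⁻¹ * w⁻¹ with hu'
  set c := l⁻¹ * w * l * w⁻¹ with hc'
  have e1 : k * w * k⁻¹ = u * w := by rw [hu']; group
  have e2 : l⁻¹ * w * l = c * w := by rw [hc']; group
  calc l * k * l⁻¹ * w * (l * k * l⁻¹)⁻¹ * w⁻¹ = l * k * (l⁻¹ * w * l) * k⁻¹ * l⁻¹ * w⁻¹ := by group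
    _ = l * (k * c) * w * k⁻¹ * l⁻¹ * w⁻¹ := by rw [e2]; group
    _ = l * c * (k * w * k⁻¹) * l⁻¹ * w⁻¹ := by rw [hk c hc]; group
    _ = l * (c * u) * w * l⁻¹ * w⁻¹ := by rw [e1]; group
    _ = l * u * (c * w) * l⁻¹ * w⁻¹ := by rw [← uc]; group
    _ = l * u * l⁻¹ := by rw [← e2]; group

theorem MQn {g x : G} (hg : g ∈ M) (hx : x ∈ (S : Subgroup G) ⊓ centralizer (V : Set G)) :
    g * x * g⁻¹ ∈ (S : Subgroup G) ⊓ centralizer (V : Set G) := by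
  refine ⟨b.MQ g hg x hx, mem_centralizer_iff.2 fun v hv => ?_⟩
  have h1 := b.MV g⁻¹ (inv_mem hg) v hv
  rw [inv_inv] at h1
  have h2 := mem_centralizer_iff.1 hx.2 _ h1
  calc v * (g * x * g⁻¹) = g * ((g⁻¹ * v * g) * x) * g⁻¹ := by group
    _ = g * x * g⁻¹ * v := by rw [h2]; group

theorem M_norm_Q : M ≤ normalizer (((S : Subgroup G) ⊓ centralizer (V : Set G) : Subgroup G) : Set G) := by
  intro m hm
  rw [mem_normalizer_iff]
  intro x
  refine ⟨fun hx => MQn b hm hx, fun hx => ?_⟩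
  have h1 := MQn b (inv_mem hm) hx
  have e : m⁻¹ * (m * x * m⁻¹) * m⁻¹⁻¹ = x := by group
  rwa [e] at h1

end core

variable (b : Bq S M V N D l C q) (lv : LvQ S M V N X L J AA)
include b lv

/-- **The members are good on `Y`.** -/
theorem gd (hYX : Y ≤ X) (hYB : ∀ B ∈ AA, B ≤ centralizer (V : Set G) → ∀ b ∈ B, ∀ y ∈ Y, b * y = y * b)
    {A : Subgroup G} (hA : A ∈ AA) {i : ι} (hi : ¬ A ≤ centralizer (N i : Set G)) (hc : ∀ a ∈ A, ∀ c ∈ C i, a * c = c * a) :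
    ∀ y ∈ Y, ∃ n ∈ N i, ∀ a ∈ A, a * (y * n) = y * n * a := by
  intro y hy
  obtain ⟨h1, h2⟩ := peel b lv hA hi
  have hXc := elem_comm lv.elX
  have hNX : N i ≤ X := (b.NV i).trans lv.VX
  set F := A ⊓ centralizer (N i : Set G) with hF
  have hcX : centralizer (X : Set G) ≤ centralizer (V : Set G) := centralizer_le lv.VX
  have hAF : A ⊓ centralizer (X : Set G) ≤ F := inf_le_inf_left _ (centralizer_le hNX)
  obtain ⟨B', hB', hBF⟩ := lv.fam.cut A hA F hAF inf_le_left h1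
  have hyX : y ∈ X := hYX hy
  have hcy : centralizer (X : Set G) ≤ centralizer ({y} : Set G) := centralizer_le (Set.singleton_subset_iff.2 hyX)
  have hFV : F ≤ centralizer (V : Set G) := by
    intro f hf
    refine mem_centralizer_iff.2 fun v hv => ?_
    obtain ⟨n, hn, c, hc', rfl⟩ := b.WC i v hv
    have c1 : Commute f n := (mem_centralizer_iff.1 hf.2 n hn).symm
    have c2 : Commute f c := hc f hf.1 c hc'
    exact (c1.mul_right c2).symm.eq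
  have hB'V : B' ≤ centralizer (V : Set G) := (le_sup_left.trans hBF.le).trans (sup_le hFV hcX)
  have hFy : F ≤ centralizer ({y} : Set G) :=
    (le_sup_left.trans hBF.ge).trans (sup_le (fun b hb => mem_centralizer_singleton_iff.2 (hYB B' hB' hB'V b hb y hy)) hcy)
  have hyF : y ∈ X ⊓ centralizer (F : Set G) :=
    ⟨hyX, mem_centralizer_iff.2 fun f hf => mem_centralizer_singleton_iff.1 (hFy hf)⟩
  rw [h2] at hyF
  obtain ⟨v, hv, c, hc', e⟩ := (mem_sup_comm (A := N i) (B := X ⊓ centralizer (A : Set G))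
    (fun v hv x hx => hXc v (hNX hv) x hx.1) hyF)
  refine ⟨v⁻¹, inv_mem hv, fun a ha => ?_⟩
  have e1 : y * v⁻¹ = c := by
    rw [e, hXc v (hNX hv) c hc'.1, mul_inv_cancel_right]
  rw [e1]
  exact mem_centralizer_iff.1 hc'.2 a ha

theorem exists_gd [Finite ι] (hYX : Y ≤ X)
    (hYB : ∀ B ∈ AA, B ≤ centralizer (V : Set G) → ∀ b ∈ B, ∀ y ∈ Y, b * y = y * b) (i : ι) :
    ∃ (A : Subgroup G) (w : G), A ≤ J ∧ Wy M V N D l C A w i ∧
      ∀ y ∈ Y, ∃ n ∈ N i, ∀ a ∈ A, a * (y * n) = y * n * a := by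
  obtain ⟨A, hA, w, -, h1, h2, h3⟩ := exists_wy b lv i
  exact ⟨A, w, h1, h3, gd b lv hYX hYB hA h2 h3.Ac⟩

/-- **`Ω₁(Z(C_S(V))) ≤ V`.** -/
theorem zcQ [Finite ι] (hZV : zc (S : Subgroup G) ≤ V)
    (hQX : zc ((S : Subgroup G) ⊓ centralizer (V : Set G)) ≤ X) :
    zc ((S : Subgroup G) ⊓ centralizer (V : Set G)) ≤ V := by
  set Q := (S : Subgroup G) ⊓ centralizer (V : Set G) with hQ
  have hVQ : V ≤ Q := fun v hv => ⟨b.VS hv, mem_centralizer_iff.2 fun u hu => b.Vc hu hv⟩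
  have hVY : V ≤ zc Q := fun v hv => ChoiceBase.mem_zc.2
    ⟨hVQ hv, elem_sq b.el v hv, fun y hy => (mem_centralizer_iff.1 hy.2 v hv).symm⟩
  have hMY : ∀ m ∈ M, ∀ y ∈ zc Q, m * y * m⁻¹ ∈ zc Q := fun m hm y hy =>
    (mem_normalizer_iff.1 (Cfsg.Agent.Omega.NO3S.Level.normalizer_le_zc Q (M_norm_Q b hm)) y).1 hy
  have hgd := exists_gd (Y := zc Q) b lv hQX (fun B hB hBV b' hb' y hy =>
    (ChoiceBase.mem_zc.1 hy).2.2 b' ⟨lv.fam.le B hB hb', hBV hb'⟩)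
  refine core b hVY (fun x hx y hy => (ChoiceBase.mem_zc.1 hy).2.2 x (ChoiceBase.mem_zc.1 hx).1)
    (fun y hy => by rw [← pow_two]; exact (ChoiceBase.mem_zc.1 hy).2.1) hMY (fun k hk y hy => ?_)
    (fun i => ?_) (fun y hy hyS => ?_)
  · refine comm_of_two b hy (fun k hk hk' => ?_) hk
    obtain ⟨hkM, hkV, -⟩ := mem_Kr.1 hk
    obtain ⟨m, hm, hmS⟩ := BFr.exists_into S b.SM hk' (by rw [zpowers_le]; exact hkM)
    have h1 : m * k * m⁻¹ ∈ (S : Subgroup G) := hmS ⟨k, mem_zpowers k, rfl⟩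
    have h2 : m * k * m⁻¹ ∈ Q := by
      refine ⟨h1, mem_centralizer_iff.2 fun v hv => ?_⟩
      have h3 := b.MV m⁻¹ (inv_mem hm) v hv
      rw [inv_inv] at h3
      have h4 := hkV _ h3
      calc v * (m * k * m⁻¹) = m * ((m⁻¹ * v * m) * k) * m⁻¹ := by group
        _ = m * k * m⁻¹ * v := by rw [← h4]; group
    have h3 := (ChoiceBase.mem_zc.1 (hMY m hm y hy)).2.2 _ h2
    have h4 := congrArg (fun t => m⁻¹ * t * m) h3
    simpa [mul_assoc] using h4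
  · obtain ⟨A, w, -, h1, h2⟩ := hgd i
    exact ⟨A, w, h1, h2⟩
  · have h1 := ChoiceBase.mem_zc.1 hy
    exact hZV (ChoiceBase.mem_zc.2 ⟨h1.1.1, h1.2.1, hyS⟩)

/-- **`ZcQ`.** -/
theorem zcQ' [Finite ι] (hZV : zc (S : Subgroup G) ≤ V)
    (hQX : zc ((S : Subgroup G) ⊓ centralizer (V : Set G)) ≤ X) : ZcQ (S : Subgroup G) V := fun _ hx h2 hc =>
  zcQ b lv hZV hQX (ChoiceBase.mem_zc.2 ⟨hx, h2, fun y hy => (hc y hy).symm⟩)

/-- **an `S`-invariant subgroup of `X` centralised by `J` lies in `V`.** -/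
theorem le_of_cent [Finite ι] (hZV : zc (S : Subgroup G) ≤ V) {W : Subgroup G} (hWX : W ≤ X)
    (hWJ : ∀ w ∈ W, ∀ j ∈ J, j * w = w * j) (hWS : ∀ s ∈ S, ∀ w ∈ W, s * w * s⁻¹ ∈ W) : W ≤ V := by
  have hXc := elem_comm lv.elX
  set Y : Subgroup G := V ⊔ ⨆ m : M, cj (m : G) W with hY
  have hVY : V ≤ Y := le_sup_left
  have hWY : ∀ m ∈ M, cj m W ≤ Y := fun m hm => (le_iSup (fun m : M => cj (m : G) W) ⟨m, hm⟩).trans le_sup_right
  have hWY' : W ≤ Y := by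
    have := hWY 1 (one_mem _)
    rwa [cj_one] at this
  have hYX : Y ≤ X := by
    refine sup_le lv.VX (iSup_le fun m => ?_)
    rintro _ ⟨w, hw, rfl⟩
    exact lv.MX m m.2 w (hWX hw)
  have hYc : ∀ x ∈ Y, ∀ y ∈ Y, x * y = y * x := fun x hx y hy => hXc x (hYX hx) y (hYX hy)
  have hY2 : ∀ y ∈ Y, y * y = 1 := fun y hy => by rw [← pow_two]; exact elem_sq lv.elX y (hYX hy)
  have hMY : ∀ m ∈ M, ∀ y ∈ Y, m * y * m⁻¹ ∈ Y := by
    intro m hm
    have h1 : cj m Y ≤ Y := by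
      rw [hY]
      show Subgroup.map _ _ ≤ _
      rw [Subgroup.map_sup, Subgroup.map_iSup]
      refine sup_le ?_ (iSup_le fun m' => ?_)
      · rintro _ ⟨v, hv, rfl⟩
        exact hVY (b.MV m hm v hv)
      · have e : Subgroup.map (MulAut.conj m).toMonoidHom (cj (m' : G) W) = cj (m * m') W := cj_cj m (m' : G) W
        rw [e]
        exact hWY _ (mul_mem hm m'.2)
    exact fun y hy => h1 ⟨y, hy, rfl⟩
  -- members of `AA` which centralise `V` centralise `Y`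
  have hYB : ∀ B ∈ AA, B ≤ centralizer (V : Set G) → ∀ b ∈ B, ∀ y ∈ Y, b * y = y * b := by
    intro B hB hBV b' hb
    have h1 : Y ≤ centralizer ({b'} : Set G) := by
      refine sup_le (fun v hv => mem_centralizer_singleton_iff.2 (mem_centralizer_iff.1 (hBV hb) v hv)) (iSup_le ?_)
      rintro ⟨m, hm⟩ _ ⟨w, hw, rfl⟩
      have h2 : cj m⁻¹ B ≤ (S : Subgroup G) := by
        rintro _ ⟨c, hc, rfl⟩
        exact b.MQ m⁻¹ (inv_mem hm) c ⟨lv.fam.le B hB hc, hBV hc⟩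
      have h3 := lv.fam.conj B hB m⁻¹ (lv.ML (inv_mem hm)) h2
      have h4 := hWJ w hw (m⁻¹ * b' * m⁻¹⁻¹) (lv.AJ _ h3 ⟨b', hb, rfl⟩)
      rw [mem_centralizer_singleton_iff]
      show m * w * m⁻¹ * b' = b' * (m * w * m⁻¹)
      have h5 := congrArg (fun t => m * t * m⁻¹) h4
      simpa [mul_assoc] using h5.symm
    exact fun y hy => (mem_centralizer_singleton_iff.1 (h1 hy)).symm
  have hgd := exists_gd b lv hYX hYB
  have hKV : ∀ k ∈ Kr M V Y b.MV, ∀ v ∈ V, k * v = v * k := fun k hk => (mem_Kr.1 hk).2.1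
  have hKn : ∀ m ∈ M, ∀ k ∈ Kr M V Y b.MV, m * k * m⁻¹ ∈ Kr M V Y b.MV := by
    intro m hm k hk
    obtain ⟨h1, h2, h3⟩ := mem_Kr.1 hk
    refine mem_Kr.2 ⟨mul_mem (mul_mem hm h1) (inv_mem hm), fun v hv => ?_, fun y hy => ?_⟩
    · have h4 := h2 _ (b.MV m⁻¹ (inv_mem hm) v hv)
      have h5 := congrArg (fun t => m * t * m⁻¹) h4
      calc m * k * m⁻¹ * v = m * (k * (m⁻¹ * v * m⁻¹⁻¹)) * m⁻¹ := by group
        _ = m * (m⁻¹ * v * m⁻¹⁻¹ * k) * m⁻¹ := h5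
        _ = _ := by group
    · have h4 := hMY m⁻¹ (inv_mem hm) y hy
      rw [inv_inv] at h4
      have h5 := b.MV m hm _ (h3 _ h4)
      have e : m * (k * (m⁻¹ * y * m) * k⁻¹ * (m⁻¹ * y * m)⁻¹) * m⁻¹ = m * k * m⁻¹ * y * (m * k * m⁻¹)⁻¹ * y⁻¹ := by
        group
      rwa [e] at h5
  -- the value of `k ↦ [k, w]`
  have hphi : ∀ w ∈ W, ∀ k ∈ Kr M V Y b.MV, IsPGroup 2 (zpowers k) →
      ∀ j ∈ J, j * (k * w * k⁻¹ * w⁻¹) = k * w * k⁻¹ * w⁻¹ * j := by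
    intro w hw k hk hk' j hj
    have hKS : (S : Subgroup G) ≤ Kr M V Y b.MV ⊔ (S : Subgroup G) := le_sup_right
    obtain ⟨m, hm, hmS⟩ := BFr.exists_into S hKS hk' (by rw [zpowers_le]; exact mem_sup_left hk)
    rw [sup_comm] at hm
    obtain ⟨s, hs, g, hg, rfl⟩ := mem_sup_norm (A := (S : Subgroup G)) (B := Kr M V Y b.MV)
      (fun s hs => mem_normalizer_iff.2 fun c => ⟨fun hc => hKn s (b.SM hs) c hc, fun hc => by
        have h3 := hKn _ (inv_mem (b.SM hs)) _ hc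
        have e1 : s⁻¹ * (s * c * s⁻¹) * s⁻¹⁻¹ = c := by group
        rwa [e1] at h3⟩) hm
    have h1 : s * g * k * (s * g)⁻¹ ∈ (S : Subgroup G) := hmS ⟨k, mem_zpowers k, rfl⟩
    have h2 : g * k * g⁻¹ ∈ (S : Subgroup G) := by
      have h3 := mul_mem (mul_mem (inv_mem hs) h1) hs
      have e1 : s⁻¹ * (s * g * k * (s * g)⁻¹) * s = g * k * g⁻¹ := by group
      rwa [e1] at h3
    -- `[k^g, w] = [k, w]`
    have h3 := (mem_Kr.1 hk).2.2 w (hWY' hw)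
    have h4 := (mem_Kr.1 (inv_mem hg)).2.2 w (hWY' hw)
    rw [inv_inv] at h4
    have h5 := phi_conj b (hKV k hk) h3 h4
    have h6 : g * (k * w * k⁻¹ * w⁻¹) * g⁻¹ = k * w * k⁻¹ * w⁻¹ := by rw [hKV g hg _ h3]; group
    rw [h6] at h5
    have h7 : k * w * k⁻¹ * w⁻¹ ∈ W := by
      rw [← h5]
      exact mul_mem (hWS _ h2 w hw) (inv_mem hw)
    exact hWJ _ h7 j hj
  -- it is trivial
  have hphi1 : ∀ w ∈ W, ∀ k ∈ Kr M V Y b.MV, IsPGroup 2 (zpowers k) → k * w = w * k := by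
    intro w hw k hk hk'
    set u := k * w * k⁻¹ * w⁻¹ with hu
    have huV : u ∈ V := (mem_Kr.1 hk).2.2 w (hWY' hw)
    have hul : ∀ l ∈ Mq M V Y b.MV, ∀ j ∈ J, j * (l * u * l⁻¹) = l * u * l⁻¹ * j := by
      intro l hl j hj
      have h4 : l⁻¹ * w * l * w⁻¹ ∈ V := by
        have h5 := (inv_mem hl).2 w (hWY' hw)
        rwa [inv_inv] at h5
      rw [← phi_conj b (hKV k hk) huV h4]
      refine hphi w hw _ (hKn l hl.1 k hk) ?_ j hj
      have e : zpowers (l * k * l⁻¹) = cj l (zpowers k) := by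
        show _ = Subgroup.map _ _
        rw [MonoidHom.map_zpowers]
        rfl
      rw [e]
      exact hk'.map _
    have hu1 : u = 1 := by
      refine b.C0 u huV fun i => ?_
      obtain ⟨A, w', hAJ, hW, hg⟩ := hgd i
      have h1 : ∀ a ∈ A, a * u = u * a := fun a ha => hphi w hw k hk hk' a (hAJ ha)
      obtain ⟨x, hx, hx2⟩ := hW.gen _ (inv_mem hW.wD)
      have h2 := (sup_le_Gs b hW hYc hVY hMY hg hx).1
      refine Wy.mem_C b hW huV h1 fun a ha => ?_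
      have h3 := hul x h2 a (hAJ ha)
      rw [hx2 u huV, inv_inv] at h3
      have h4 := congrArg (fun t => w' * t * w'⁻¹) h3
      calc w' * a * w'⁻¹ * u = w' * (a * (w'⁻¹ * u * w')) * w'⁻¹ := by group
        _ = w' * (w'⁻¹ * u * w' * a) * w'⁻¹ := h4
        _ = _ := by group
    rw [hu] at hu1
    calc k * w = (k * w * k⁻¹ * w⁻¹) * (w * k) := by group
      _ = w * k := by rw [hu1, one_mul]
  refine hWY'.trans (core b hVY hYc hY2 hMY (fun k hk => ?_) (fun i => ?_) fun y hy hyS => ?_)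
  · have h1 : Y ≤ centralizer ({k} : Set G) := by
      refine sup_le (fun v hv => mem_centralizer_singleton_iff.2 (hKV k hk v hv).symm) (iSup_le ?_)
      rintro ⟨m, hm⟩ _ ⟨w, hw, rfl⟩
      have h2 := comm_of_two b (hWY' hw) (hphi1 w hw) (hKn m⁻¹ (inv_mem hm) k hk)
      rw [mem_centralizer_singleton_iff]
      show m * w * m⁻¹ * k = k * (m * w * m⁻¹)
      have h5 := congrArg (fun t => m * t * m⁻¹) h2
      simpa [mul_assoc] using h5.symm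
    exact fun y hy => (mem_centralizer_singleton_iff.1 (h1 hy)).symm
  · obtain ⟨A, w, -, h1, h2⟩ := hgd i
    exact ⟨A, w, h1, h2⟩
  · exact hZV (ChoiceBase.mem_zc.2 ⟨lv.XS (hYX hy), elem_sq lv.elX y (hYX hy), hyS⟩)

end Cfsg.Agent.Omega.NOThreeL.RRed.BQ
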