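import Cfsg.Agent.Omega.NOThreeL.RRed.BQ.Mem
import Cfsg.Agent.Omega.NOThreeL.RRed.QFr.Frame

/-!
# NO-3L, box R, natural blocks : a member of `AA` acting on one block only and a Weyl element

* `Wy` : `A` acts on `N i` as the full root group with axis `l i`, `A^w` as the opposite one, `⟨A, A^w⟩` acts on `V` as `D i`;
* `exists_wy` : these exist, with `A ∈ AA`.
-/

set_option autoImplicit false
set_option linter.unusedSectionVars false

namespace Cfsg.Agent.Omega.NOThreeL.RRed.BQ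

open Subgroup Cfsg Cfsg.Agent.ZN Cfsg.Agent.ZN.ChoiceBase
open Cfsg.Agent.Lib.SL2Mat
open Cfsg.Agent.Omega.NatPair hiding cj
open Cfsg.Agent.Omega.SQ1.Bau (mem_sup_comm card_sup_comm elem_comm elem_sq mem_sup_norm)
open Cfsg.Agent.Omega.OM.Lev.Uni (Best)
open Cfsg.Agent.Omega.FFThm (ElemM)
open Cfsg.Agent.Omega.NO3S.OneLine (BFam)
open Cfsg.Agent.Omega.OM.FourF (Act)
open Cfsg.Agent.Omega.OM.SwapV.Q (CorA)
open Cfsg.Agent.Omega.NOThreeL.RRed.QFr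

universe u

variable {G : Type u} [Group G]

/-- **`A` acts on the block `i` only, `w` is a Weyl element.** -/
structure Wy {ι : Type} (M V : Subgroup G) (N D l C : ι → Subgroup G) (A : Subgroup G) (w : G) (i : ι) : Prop where
  AM : A ≤ M
  wD : w ∈ D i
  An : ∀ a ∈ A, ∀ v ∈ N i, a * v * a⁻¹ ∈ N i
  Ac : ∀ a ∈ A, ∀ c ∈ C i, a * c = c * a
  Al : ∀ a ∈ A, ∀ v ∈ l i, a * v = v * a
  fix : ∀ v ∈ N i, (∀ a ∈ A, a * v = v * a) → v ∈ l i
  ll : ∀ v ∈ l i, w⁻¹ * v * w ∈ l i → v = 1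
  split : ∀ v ∈ N i, ∃ x ∈ l i, ∃ y ∈ l i, v = x * (w * y * w⁻¹)
  gen : ∀ d ∈ D i, ∃ k ∈ A ⊔ cj w A, ∀ v ∈ V, k * v * k⁻¹ = d * v * d⁻¹
  act : ∀ a ∈ A, ∃ d ∈ D i, ∀ v ∈ V, a * v * a⁻¹ = d * v * d⁻¹

variable [Finite G] {ι : Type} {S : Sylow 2 G} {M V : Subgroup G} {N D l C : ι → Subgroup G} {q : ℕ}
  {X L J : Subgroup G} {AA : Set (Subgroup G)} (b : Bq S M V N D l C q) (lv : LvQ S M V N X L J AA)

section mats

variable {F : Type} [Field F] {e : G → F × F} {i : ι}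

omit [Finite G] in
theorem CorA_one {W Z S : Subgroup G} (c : CorA F S W Z e) : e 1 = 0 := by
  have h2 := c.mul 1 (one_mem _) 1 (one_mem _)
  rw [mul_one] at h2
  exact left_eq_add.1 h2

include b in
/-- the elements of `H` acting as a matrix on `N i` and trivially on `C i` -/
theorem gen_aux (c : CorA F (S : Subgroup G) (N i) (l i) e) (s : SLA F (D i) (N i) e) {A : Subgroup G}
    (hAn : ∀ a ∈ A, ∀ v ∈ N i, a * v * a⁻¹ ∈ N i) (hAc : ∀ a ∈ A, ∀ x ∈ C i, a * x = x * a)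
    (hfull : ∀ m : F, ∃ a ∈ A, Act (N i) e a fun p => (p.1 + m * p.2, p.2)) {w : G} (hw : w ∈ D i)
    (hwa : ∀ v ∈ N i, pv e (w * v * w⁻¹) = ap (wm (1 : F) one_ne_zero) (pv e v)) {d : G} (hd : d ∈ D i) :
    ∃ k ∈ A ⊔ cj w A, ∀ v ∈ V, k * v * k⁻¹ = d * v * d⁻¹ := by
  let T : Matrix.SpecialLinearGroup (Fin 2) F → Prop := fun m => ∃ k ∈ A ⊔ cj w A, (∀ x ∈ C i, k * x = x * k) ∧
    (∀ v ∈ N i, k * v * k⁻¹ ∈ N i) ∧ ∀ v ∈ N i, pv e (k * v * k⁻¹) = ap m (pv e v)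
  have hmul : ∀ m m', T m → T m' → T (m * m') := by
    rintro m m' ⟨k, hk, k1, k2, k3⟩ ⟨k', hk', k1', k2', k3'⟩
    have e1 : ∀ v, k * k' * v * (k * k')⁻¹ = k * (k' * v * k'⁻¹) * k⁻¹ := fun v => by group
    refine ⟨k * k', mul_mem hk hk', fun x hx => ?_, fun v hv => ?_, fun v hv => ?_⟩
    · have c1 : Commute k x := k1 x hx
      have c2 : Commute k' x := k1' x hx
      exact (c1.mul_left c2).eq
    · rw [e1]; exact k2 _ (k2' v hv)
    · rw [e1, k3 _ (k2' v hv), k3' v hv, ap_mul]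
  have hup : ∀ m : F, T (up m) := by
    intro m
    obtain ⟨a, ha, hm⟩ := hfull m
    exact ⟨a, mem_sup_left ha, hAc a ha, hAn a ha, up_pv hm⟩
  have hwi : ∀ v ∈ N i, w⁻¹ * v * w ∈ N i := fun v hv => by
    have h1 := s.nD w⁻¹ (inv_mem hw) v hv
    rwa [inv_inv] at h1
  have hlo : ∀ m : F, T (lo m) := by
    intro m
    obtain ⟨a, ha, hm⟩ := hfull (-m)
    have hm' := up_pv hm
    have e1 : ∀ v, w * a * w⁻¹ * v * (w * a * w⁻¹)⁻¹ = w * (a * (w⁻¹ * v * w) * a⁻¹) * w⁻¹ := fun v => by group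
    refine ⟨w * a * w⁻¹, mem_sup_right ⟨a, ha, rfl⟩, fun x hx => ?_, fun v hv => ?_, fun v hv => ?_⟩
    · have c1 : Commute w x := b.DC i w hw x hx
      have c2 : Commute a x := hAc a ha x hx
      exact ((c1.mul_left c2).mul_left c1.inv_left).eq
    · rw [e1]; exact s.nD w hw _ (hAn a ha _ (hwi v hv))
    · have h1 := hwa _ (hwi v hv)
      have e2 : w * (w⁻¹ * v * w) * w⁻¹ = v := by group
      rw [e2] at h1
      rw [e1, hwa _ (hAn a ha _ (hwi v hv)), hm' _ (hwi v hv), h1, ← ap_mul, ← ap_mul, wm_up]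
      congr 2
      simp
  obtain ⟨x, y, z, t, hdet, hact⟩ := s.act d hd
  have hd' := act_pv hdet hact
  obtain ⟨a₁, a₂, a₃, a₄, hm⟩ := exists_up_lo (Cfsg.Agent.Lib.SL2Mat.mk x y z t hdet)
  obtain ⟨k, hk, k1, k2, k3⟩ : T (Cfsg.Agent.Lib.SL2Mat.mk x y z t hdet) := by
    rw [hm]
    exact hmul _ _ (hmul _ _ (hmul _ _ (hup _) (hlo _)) (hup _)) (hlo _)
  refine ⟨k, hk, fun v hv => ?_⟩
  obtain ⟨n, hn, c', hc', rfl⟩ := b.WC i v hv
  have h1 : k * n * k⁻¹ = d * n * d⁻¹ :=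
    c.inj _ (k2 n hn) _ (s.nD d hd n hn) (pv_inj ((k3 n hn).trans (hd' n hn).symm))
  have h2 : k * c' * k⁻¹ = c' := by rw [k1 c' hc']; group
  have h3 : d * c' * d⁻¹ = c' := by rw [b.DC i d hd c' hc']; group
  calc k * (n * c') * k⁻¹ = (k * n * k⁻¹) * (k * c' * k⁻¹) := by group
    _ = (d * n * d⁻¹) * (d * c' * d⁻¹) := by rw [h1, h2, h3]
    _ = _ := by group

end mats

include b lv

/-- **Existence.** -/
theorem exists_wy [Finite ι] (i : ι) : ∃ A ∈ AA, ∃ w, A ≤ (S : Subgroup G) ∧ A ≤ J ∧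
    ¬ A ≤ centralizer (N i : Set G) ∧ Wy M V N D l C A w i := by
  obtain ⟨A, hA, h1, h2⟩ := exists_A b lv i
  obtain ⟨h3, h4, h5⟩ := (root b lv hA i).resolve_left h1
  obtain ⟨F, _, _, _, e, hF, c, s⟩ := b.nat i
  have hAn : ∀ a ∈ A, ∀ v ∈ N i, a * v * a⁻¹ ∈ N i := fun a ha => nrm b lv hA i ha
  have hAc : ∀ a ∈ A, ∀ x ∈ C i, a * x = x * a := fun a ha x hx =>
    b.cent_C (fun j hj v hv => (mem_centralizer_iff.1 (h2 j hj ha) v hv).symm) x hx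
  have hfull := c.full_of (lv.fam.le A hA) hAn h3 (by rw [hF]; exact h5)
  obtain ⟨w, hw, hwa⟩ := s.lift 0 1 (-1) 0 (by ring)
  have hwa' : ∀ v ∈ N i, pv e (w * v * w⁻¹) = ap (wm (1 : F) one_ne_zero) (pv e v) := by
    intro v hv
    rw [act_pv (by ring) hwa v hv]
    congr 1
    refine ext_ent ?_ ?_ ?_ ?_ <;> simp
  have e0 := CorA_one c
  refine ⟨A, hA, w, lv.fam.le A hA, lv.AJ A hA, h1, (lv.fam.le A hA).trans b.SM, hw, hAn, hAc, h3,
    fun v hv hf => fix b lv hA h1 hv hf, fun v hv hv' => ?_, fun v hv => ?_, fun d hd => gen_aux b c s hAn hAc hfull hw hwa' hd,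
    fun a ha => ?_⟩
  · obtain ⟨hu1, hu2⟩ := (c.memZ _).1 hv'
    obtain ⟨hv1, hv2⟩ := (c.memZ _).1 hv
    have h6 := hwa _ hu1
    have e2 : w * (w⁻¹ * v * w) * w⁻¹ = v := by group
    rw [e2] at h6
    refine c.inj v hv1 1 (one_mem _) ?_
    rw [e0]
    refine Prod.ext ?_ hv2
    rw [h6]
    simp [hu2]
  · obtain ⟨x, hx, hxe⟩ := c.surj ((e v).1, 0)
    obtain ⟨y, hy, hye⟩ := c.surj (-(e v).2, 0)
    refine ⟨x, (c.memZ x).2 ⟨hx, by rw [hxe]⟩, y, (c.memZ y).2 ⟨hy, by rw [hye]⟩, ?_⟩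
    have h6 := s.nD w hw y hy
    refine c.inj v hv _ (mul_mem hx h6) ?_
    rw [c.mul x hx _ h6, hwa y hy, hxe, hye]
    ext <;> simp
  · obtain ⟨m, hm⟩ := c.up_of (lv.fam.le A hA ha) (h3 a ha)
    obtain ⟨d, hd, hda⟩ := s.lift 1 m 0 1 (by ring)
    refine ⟨d, hd, fun v hv => ?_⟩
    obtain ⟨n, hn, c', hc', rfl⟩ := b.WC i v hv
    have h6 : a * n * a⁻¹ = d * n * d⁻¹ := by
      refine c.inj _ (hAn a ha n hn) _ (s.nD d hd n hn) ?_
      rw [hm n hn, hda n hn]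
      ext <;> simp
    have h7 : a * c' * a⁻¹ = c' := by rw [hAc a ha c' hc']; group
    have h8 : d * c' * d⁻¹ = c' := by rw [b.DC i d hd c' hc']; group
    calc a * (n * c') * a⁻¹ = (a * n * a⁻¹) * (a * c' * a⁻¹) := by group
      _ = (d * n * d⁻¹) * (d * c' * d⁻¹) := by rw [h6, h7, h8]
      _ = _ := by group

end Cfsg.Agent.Omega.NOThreeL.RRed.BQ
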